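import Mathlib
import Cfsg.Agent.Transfer.NormalPComplement
import Cfsg.Agent.Classification.IdU.Gen
set_option linter.all false

/-!
# Sylow subgroups of subgroups, as subgroups of the whole group
-/

set_option autoImplicit false

namespace Cfsg.Agent.Classification.IdU.GenSylow

open Cfsg.Agent.Classification.IdU.Gen

variable {G : Type*} [Group G]

/-- A `p`-subgroup `Q` of `K` is conjugate in `K` into the Sylow `p`-subgroup `P` of `K`. -/
theorem sylow_sub [Finite G] {p : ℕ} [hp : Fact p.Prime] {K P Q : Subgroup G} (hP : IsPGroup p P)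
    (hPK : P ≤ K) (hi : ¬ p ∣ P.relIndex K) (hQ : IsPGroup p Q) (hQK : Q ≤ K) :
    ∃ k ∈ K, ∀ x ∈ Q, k⁻¹ * x * k ∈ P := by
  have hP' : IsPGroup p (P.subgroupOf K) := hP.of_equiv (Subgroup.subgroupOfEquivOfLe hPK).symm
  have hQ' : IsPGroup p (Q.subgroupOf K) := hQ.of_equiv (Subgroup.subgroupOfEquivOfLe hQK).symm
  let T : Sylow p K := hP'.toSylow hi
  have hT : (T : Subgroup K) = P.subgroupOf K := rfl
  obtain ⟨W, hW⟩ := hQ'.exists_le_sylow
  obtain ⟨g, hg⟩ := MulAction.exists_smul_eq K T W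
  refine ⟨g, g.2, ?_⟩
  intro x hx
  have h3 : (⟨x, hQK hx⟩ : K) ∈ (W : Subgroup K) := hW hx
  rw [← hg, Sylow.coe_subgroup_smul, Subgroup.mem_pointwise_smul_iff_inv_smul_mem] at h3
  have h5 : (MulAut.conj g)⁻¹ • (⟨x, hQK hx⟩ : K) = g⁻¹ * ⟨x, hQK hx⟩ * g := by
    rw [← map_inv, MulAut.smul_def, MulAut.conj_apply, inv_inv]
  rw [h5, hT] at h3
  exact h3

/-- A `p`-subgroup normalised by `K` lies in every Sylow `p`-subgroup of `K`. -/
theorem le_sylow_of_normal [Finite G] {p : ℕ} [hp : Fact p.Prime] {K P Q : Subgroup G}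
    (hP : IsPGroup p P) (hPK : P ≤ K) (hi : ¬ p ∣ P.relIndex K) (hQ : IsPGroup p Q) (hQK : Q ≤ K)
    (hn : ∀ k ∈ K, ∀ x ∈ Q, k * x * k⁻¹ ∈ Q) : Q ≤ P := by
  obtain ⟨k, hk, h⟩ := sylow_sub hP hPK hi hQ hQK
  intro x hx
  have := h _ (hn k hk x hx)
  have e : k⁻¹ * (k * x * k⁻¹) * k = x := by group
  rwa [e] at this

/-- Frattini argument. -/
theorem frattini [Finite G] {p : ℕ} [hp : Fact p.Prime] {K P : Subgroup G}
    (hP : IsPGroup p P) (hPK : P ≤ K) (hi : ¬ p ∣ P.relIndex K) {g : G}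
    (hg : ∀ x ∈ K, g * x * g⁻¹ ∈ K) : ∃ k ∈ K, ∀ x ∈ P, (k⁻¹ * g) * x * (k⁻¹ * g)⁻¹ ∈ P := by
  have hQ : IsPGroup p (P.map (MulAut.conj g).toMonoidHom) := hP.map _
  have hQK : P.map (MulAut.conj g).toMonoidHom ≤ K := by
    rintro _ ⟨x, hx, rfl⟩
    exact hg x (hPK hx)
  obtain ⟨k, hk, h⟩ := sylow_sub hP hPK hi hQ hQK
  refine ⟨k, hk, ?_⟩
  intro x hx
  have := h _ ⟨x, hx, rfl⟩
  have e : k⁻¹ * ((MulAut.conj g).toMonoidHom x) * k = (k⁻¹ * g) * x * (k⁻¹ * g)⁻¹ := by
    simp only [MulEquiv.coe_toMonoidHom, MulAut.conj_apply]; group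
  rwa [e] at this

/-- In a `2`-group with a unique involution `t`, `t` is a power of every non-trivial element. -/
theorem exists_pow_eq {t : G} {S : Subgroup G} (hS : IsPGroup 2 S)
    (hu : ∀ s ∈ S, s * s = 1 → s ≠ 1 → s = t) {s : G} (hs : s ∈ S) (hs1 : s ≠ 1) :
    ∃ j : ℕ, s ^ j = t := by
  classical
  obtain ⟨k, hk⟩ := hS ⟨s, hs⟩
  have hk' : s ^ 2 ^ k = 1 := congrArg Subtype.val hk
  -- the least such `k`
  have hex : ∃ k, s ^ 2 ^ k = 1 := ⟨k, hk'⟩
  set i := Nat.find hex with hi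
  have h1 : s ^ 2 ^ i = 1 := Nat.find_spec hex
  have h0 : i ≠ 0 := by
    intro h
    rw [h, pow_zero, pow_one] at h1
    exact hs1 h1
  obtain ⟨j, hj⟩ := Nat.exists_eq_succ_of_ne_zero h0
  have h2 : s ^ 2 ^ j ≠ 1 := Nat.find_min hex (by omega)
  refine ⟨2 ^ j, hu _ (S.pow_mem hs _) ?_ h2⟩
  rw [← pow_add, ← two_mul, ← pow_succ', ← Nat.succ_eq_add_one, ← hj]
  exact h1

/-- The image of a Sylow subgroup of `K` as a subgroup of `G`. -/
theorem sylow_map {p : ℕ} [hp : Fact p.Prime] [Finite G] {K : Subgroup G} (T : Sylow p K) :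
    IsPGroup p ((T : Subgroup K).map K.subtype) ∧ (T : Subgroup K).map K.subtype ≤ K ∧
      ¬ p ∣ ((T : Subgroup K).map K.subtype).relIndex K := by
  refine ⟨T.isPGroup'.map _, Subgroup.map_subtype_le _, ?_⟩
  have h1 : ((T : Subgroup K).map K.subtype).subgroupOf K = T :=
    Subgroup.comap_map_eq_self_of_injective K.subtype_injective _
  rw [Subgroup.relIndex, h1]
  exact T.not_dvd_index

/-- Burnside's transfer theorem: `S` a Sylow `r`-subgroup of `O` such that elements of `O`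
normalising `S` centralise it. -/
theorem exists_r_core [Finite G] {r : ℕ} [hr : Fact r.Prime] {O S : Subgroup G}
    (hS : IsPGroup r S) (hSO : S ≤ O) (hi : ¬ r ∣ S.relIndex O)
    (hN : ∀ y ∈ O, (∀ s ∈ S, y * s * y⁻¹ ∈ S) → ∀ s ∈ S, y * s = s * y) :
    ∃ M : Subgroup G, M ≤ O ∧ (∀ x ∈ O, x ∈ M ↔ (orderOf x).Coprime r) ∧
      (Nat.card M).Coprime r ∧ ∃ k, Nat.card O = Nat.card M * r ^ k := by
  have hS' : IsPGroup r (S.subgroupOf O) := hS.of_equiv (Subgroup.subgroupOfEquivOfLe hSO).symm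
  let T : Sylow r O := hS'.toSylow hi
  have hT : (T : Subgroup O) = S.subgroupOf O := rfl
  have hNC : Subgroup.normalizer ((T : Subgroup O) : Set O) ≤
      Subgroup.centralizer ((T : Subgroup O) : Set O) := by
    intro y hy
    rw [Subgroup.mem_centralizer_iff]
    intro s hs
    apply Subtype.ext
    have h1 := hN y y.2 (by
      intro s hs
      have := (Subgroup.mem_normalizer_iff.mp hy ⟨s, hSO hs⟩).mp hs
      exact this) s hs
    exact h1.symm
  have hc := MonoidHom.ker_transferSylow_isComplement' T hNC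
  set N := (MonoidHom.transferSylow T hNC).ker with hNdef
  have hcop : (Nat.card N).Coprime r :=
    Cfsg.Agent.Transfer.NormalPComplement.coprime_of_isComplement' T hc
  refine ⟨N.map O.subtype, Subgroup.map_subtype_le _, ?_, ?_, ?_⟩
  · intro x hx
    have h1 := Cfsg.Agent.Transfer.NormalPComplement.mem_iff_coprime_orderOf T N hc ⟨x, hx⟩
    rw [Subgroup.orderOf_mk] at h1
    rw [← h1]
    constructor
    · rintro ⟨y, hy, rfl⟩
      exact hy
    · intro h
      exact ⟨_, h, rfl⟩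
  · rw [Nat.card_congr (N.equivMapOfInjective O.subtype O.subtype_injective).toEquiv.symm]
    exact hcop
  · obtain ⟨k, hk⟩ := IsPGroup.iff_card.mp T.isPGroup'
    refine ⟨k, ?_⟩
    rw [Nat.card_congr (N.equivMapOfInjective O.subtype O.subtype_injective).toEquiv.symm, ← hk]
    exact hc.card_mul_card.symm

/-- An involution centralising `S`: elements of `O` normalising `S` centralise `S`, provided those
centralised by `t` do. -/
theorem centralizes_of_fixed {t : G} (ht : t * t = 1) {O S : Subgroup G}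
    (hodd : ∀ x ∈ O, Odd (orderOf x)) (htO : ∀ x ∈ O, t * x * t ∈ O) (htS : ∀ s ∈ S, s * t = t * s)
    (hfix : ∀ y ∈ O, y * t = t * y → (∀ s ∈ S, y * s * y⁻¹ ∈ S) → ∀ s ∈ S, y * s = s * y) :
    ∀ y ∈ O, (∀ s ∈ S, y * s * y⁻¹ ∈ S) → ∀ s ∈ S, y * s = s * y := by
  intro y hy hyS
  have hti : t⁻¹ = t := inv_eq_of_mul_eq_one_right ht
  set d := y⁻¹ * (t * y * t) with hd
  have hdO : d ∈ O := O.mul_mem (O.inv_mem hy) (htO y hy)
  -- `d` centralises `S`
  have hdS : ∀ s ∈ S, d * s = s * d := by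
    intro s hs
    have h1 : t * s * t = s := by rw [← htS s hs, mul_assoc, ht, mul_one]
    have h2 : t * (y * s * y⁻¹) * t = y * s * y⁻¹ := by
      rw [← htS _ (hyS s hs), mul_assoc, ht, mul_one]
    have h3 : (t * y * t) * s * (t * y * t)⁻¹ = y * s * y⁻¹ := by
      calc (t * y * t) * s * (t * y * t)⁻¹ = t * y * (t * s * t⁻¹) * y⁻¹ * t⁻¹ := by group
        _ = t * (y * s * y⁻¹) * t := by rw [hti, h1]; group
        _ = y * s * y⁻¹ := h2
    calc d * s = y⁻¹ * ((t * y * t) * s * (t * y * t)⁻¹) * (t * y * t) := by rw [hd]; group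
      _ = s * d := by rw [h3, hd]; group
  obtain ⟨v, hv, h1, h2⟩ := exists_decomp ht (hodd d hdO)
  have hvO : v ∈ O := (Subgroup.zpowers_le.mpr hdO) hv
  have hvS : ∀ s ∈ S, v * s = s * v := by
    intro s hs
    obtain ⟨j, rfl⟩ := Subgroup.mem_zpowers_iff.mp hv
    exact ((show Commute s d from (hdS s hs).symm).zpow_right j).eq.symm
  have h3 : (y * v) * t = t * (y * v) := by
    have : t * (y * v) = t * (y * v) * t * t := by rw [mul_assoc _ t t, ht, mul_one]
    rw [this, h1]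
  have h4 := hfix (y * v) (O.mul_mem hy hvO) h3 (by
    intro s hs
    have : y * v * s * (y * v)⁻¹ = y * s * y⁻¹ := by
      rw [mul_assoc y v s, hvS s hs]; group
    rw [this]; exact hyS s hs)
  intro s hs
  have h5 := h4 s hs
  have h6 : y * s = y * v * s * v⁻¹ := by
    rw [mul_assoc y v s, hvS s hs]; group
  rw [h6, h5]; group

end Cfsg.Agent.Classification.IdU.GenSylow
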